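import Cfsg.Agent.Lib.RankTwoModel.L4.SemiChar.Setup

/-!
# The local inner products of the semidihedral character computation

The functions of the Brauer system are invariant under translation by the central element of `O`, so their products
with the induced character vanish; `lam th2` is the difference `R (θ lam) - R lam`.

Blueprint: `blueprint/RankTwo_L45.md`, D3.
-/

set_option autoImplicit false
set_option linter.unusedSectionVars false
set_option linter.style.haveILetI false

namespace CfsgLib.RankTwoModel.L4.SemiChar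

open Cfsg CfsgLib.CharTheory CfsgLib.BrauerOrder CfsgLib.Blocks CfsgLib.Blocks.AbelianFree
open scoped ComplexConjugate

universe u v

variable {G : Type u} [Group G] [Fintype G] {z : G} [Fintype (Cz z)] {Ω : Type v} [MulAction (Cz z) Ω]
  {D : Sys G z}

/-- Invariance under translation by `y` on the kernel. -/
def Inv (D : Sys G z) (y : Cz z) (f : Cz z → ℂ) : Prop := ∀ c ∈ D.lam.ker, f (c * y) = f c

theorem Inv.sub {y : Cz z} {f g : Cz z → ℂ} (hf : Inv D y f) (hg : Inv D y g) : Inv D y (f - g) :=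
  fun c hc => by simp only [Pi.sub_apply, hf c hc, hg c hc]

theorem Inv.add {y : Cz z} {f g : Cz z → ℂ} (hf : Inv D y f) (hg : Inv D y g) : Inv D y (f + g) :=
  fun c hc => by simp only [Pi.add_apply, hf c hc, hg c hc]

theorem Inv.mul {y : Cz z} {f g : Cz z → ℂ} (hf : Inv D y f) (hg : Inv D y g) : Inv D y (f * g) :=
  fun c hc => by simp only [Pi.mul_apply, hf c hc, hg c hc]

variable {r : ℕ} {χ : ↥D.lam.ker →* ℂˣ} (H : Hyps D Ω r χ)
include H

/-- The invariances. -/
theorem invariant : ∃ y : ↥D.lam.ker, χ y ≠ 1 ∧ (χ * χ) y ≠ 1 ∧ Inv D y D.one ∧ Inv D y D.lamF ∧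
    (∀ (b : Bool) (τ : ↥(D.core.T b) →* ℂˣ), Inv D y (D.core.R Ω b τ)) ∧ Inv D y (D.Sh Ω) := by
  obtain ⟨y, hy, hyO, hycomm⟩ := H.y0
  refine ⟨y, hy, fun e => hy (chi_odd_order H e), fun _ _ => rfl, fun c _ => ?_, ?_⟩
  · show (D.lam (c * y) : ℂ) = D.lam c
    rw [map_mul, MonoidHom.mem_ker.1 y.2, mul_one]
  have hodd : ¬ 2 ∣ orderOf (y : Cz z) := fun h =>
    (Nat.not_even_iff_odd.2 H.spec.core.oodd) (even_iff_two_dvd.2 (h.trans (Subgroup.orderOf_dvd_natCard _ hyO)))
  have hSt : ∀ c, St Ω (c * y : Cz z) = St Ω c := fun c => by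
    rw [St, St]
    congr 2
    refine Nat.card_congr (Equiv.subtypeEquivRight fun a => ?_)
    show (c * (y : Cz z)) • a = a ↔ c • a = a
    rw [mul_smul, H.spec.core.otriv _ hyO]
  have hp2 : ∀ c ∈ D.lam.ker, p2 (c * y : Cz z) = p2 c := by
    intro c hc
    obtain ⟨w, hw, hcw, ⟨k, hk⟩, hwo⟩ := p2_spec c
    obtain ⟨m, hm⟩ := pow_p2 H.spec c
    have hpk : p2 c ∈ D.lam.ker := hm ▸ pow_mem hc m
    have hwk : w ∈ D.lam.ker := by
      have e : p2 c * w ∈ D.lam.ker := hw.symm ▸ hc
      exact (mul_mem_cancel_left hpk).1 e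
    have hwy : Commute w (y : Cz z) := (hycomm w hwk).symm
    have hpy : Commute (y : Cz z) (p2 c) := hycomm _ hpk
    have e : c * (y : Cz z) = p2 c * (w * y) := by rw [← mul_assoc, hw]
    rw [e, p2_mul ⟨k, hk⟩ (hcw.symm.mul_left hpy) fun h => ?_]
    rcases (Nat.prime_two.dvd_mul).1 (h.trans hwy.orderOf_mul_dvd_mul_orderOf) with h | h
    · exact hwo h
    · exact hodd h
  refine ⟨fun b τ c hc => ?_, fun c _ => by simp only [Sys.Sh, hSt]⟩
  rcases types H.spec.core c with ⟨u, hu, h⟩ | h | h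
  · rw [R_ctype H.spec.core b τ hu (g := c * y) (by rwa [hp2 c hc]), R_ctype H.spec.core b τ hu h, hSt]
  all_goals
    obtain ⟨t, ht, hz, hcj⟩ := h
    have hcj' : IsConj (p2 (c * y : Cz z)) t := by rwa [hp2 c hc]
  · cases b
    · rw [R_ttype H.spec.core false τ ht hz hcj, R_ttype H.spec.core false τ ht hz hcj']
    · rw [R_other H.spec.core true τ (g := c * y) ⟨t, ht, hz, hcj'⟩,
        R_other H.spec.core true τ (g := c) ⟨t, ht, hz, hcj⟩]
  · cases b
    · rw [R_other H.spec.core false τ (g := c * y) ⟨t, ht, hz, hcj'⟩,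
        R_other H.spec.core false τ (g := c) ⟨t, ht, hz, hcj⟩]
    · rw [R_ttype H.spec.core true τ ht hz hcj, R_ttype H.spec.core true τ ht hz hcj']

variable (hθ : (D.θ ⟨D.zc, H.spec.core.zle false H.spec.zcZ⟩ : ℂ) = -1)
include hθ

theorem inner_lam_Th : classInner (fun c => (D.lam c : ℂ) * D.Th Ω c) (D.Th Ω) = 0 := by
  classical
  have po := lam_theta_orbit H.spec H.z2 hθ
  rw [Sys.Th, ← R_mul_lam H.spec.core false D.θ H.spec.lamsq, classInner_R_R H.spec.core]
  change (if D.θ * D.lamT false = D.θ then (1 : ℂ) else 0) +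
    (if D.core.conjChar (H.spec.core.nnorm false) (D.θ * D.lamT false) = D.θ then (1 : ℂ) else 0) = 0
  rw [if_neg fun h => po (Or.inl h), if_neg fun h => po (Or.inr ?_), add_zero]
  rw [← conjChar_conjChar H.spec false (D.θ * D.lamT false), h]

/-- The three constituents of the product with `th2`. -/
theorem signed_parts : IsSignedIrr (psi χ * D.Th Ω) ∧ IsSignedIrr (psi χ * D.one) ∧ IsSignedIrr (psi χ * D.Sh Ω) := by
  obtain ⟨y, hy, hy2, i1, -, iR, iS⟩ := invariant H
  haveI := finite_omega H.spec.core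
  have hgen := hgen_all H.spec
  obtain ⟨g1, -, g3, -⟩ := gen_basic H.spec hgen
  have hg := psi_gen H.spec.lamsq (lam_w H) H.inv
  obtain ⟨b1, b2, -, -, -, -, b7, -, -, b10⟩ := inner_basic H.spec
  obtain ⟨-, j2, -⟩ := inner_six H.spec
  refine ⟨?_, ?_, ?_⟩
  · refine irr_or_neg_of_norm_one (isGenChar_mul hg (hgen false D.θ)) ?_
    rw [psi_inner_psi H.spec.lamsq hy2 (f := D.Th Ω) (g := D.Th Ω) (iR _ _) (iR _ _), j2, inner_lam_Th H hθ,
      add_zero]
  · refine irr_or_neg_of_norm_one (isGenChar_mul hg g1) ?_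
    rw [psi_inner_psi H.spec.lamsq hy2 i1 i1, b1,
      show (fun c => (D.lam c : ℂ) * D.one c) = D.lamF from funext fun c => mul_one _,
      ← classInner_comm, b7, map_zero, add_zero]
  · refine irr_or_neg_of_norm_one (isGenChar_mul hg g3) ?_
    rw [psi_inner_psi H.spec.lamsq hy2 iS iS, b2,
      show (fun c => (D.lam c : ℂ) * D.Sh Ω c) = D.lamSh Ω from rfl, ← classInner_comm, b10, map_zero, add_zero]

omit hθ in
theorem psi_th2_eq : psi χ * D.th2 Ω = psi χ * D.Th Ω - psi χ * D.one + psi χ * D.Sh Ω := by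
  rw [Sys.th2, R_one_false H.spec]
  ring

omit hθ in
theorem supp_psi : D.Supp (psi χ * D.th2 Ω) := fun c hc => by
  obtain ⟨-, -, s⟩ := supp_th H.spec
  rw [Pi.mul_apply, s c hc, mul_zero]

/-- The products on the centraliser. -/
theorem inner_local :
    classInner (fun1 D χ) (fun1 D χ) = 3 ∧ classInner (fun1 D χ) D.one = -1 ∧
    classInner (fun1 D χ) (D.th1 Ω) = 1 ∧ classInner (fun1 D χ) (D.th1' Ω) = 1 ∧
    classInner (fun1 D χ) (D.th2 Ω) = 1 ∧
    classInner (psi χ * D.th2 Ω) (psi χ * D.th2 Ω) = 3 ∧ classInner (psi χ * D.th2 Ω) D.one = 0 ∧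
    classInner (psi χ * D.th2 Ω) (D.th1 Ω) = 0 ∧ classInner (psi χ * D.th2 Ω) (D.th1' Ω) = 0 ∧
    classInner (psi χ * D.th2 Ω) (D.th2 Ω) = 0 ∧ classInner (fun1 D χ) (psi χ * D.th2 Ω) = -1 := by
  classical
  obtain ⟨y, hy, hy2, i1, iL, iR, iS⟩ := invariant H
  have it1 : Inv D y (D.th1 Ω) := ((iR _ _).sub i1).sub (iL.mul iS)
  have it1' : Inv D y (D.th1' Ω) := ((iR _ _).sub iL).sub iS
  have it2 : Inv D y (D.th2 Ω) := (iR _ _).sub (iR _ _)
  obtain ⟨-, -, n22, -, -, -, o1, o1', o2⟩ := inner_th H.spec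
  obtain ⟨b1, b2, b3, b4, b5, b6, b7, b8, b9, b10⟩ := inner_basic H.spec
  obtain ⟨j1, j2, j3, r1, r2, r3, r4, t1, t2, t3, t4⟩ := inner_six H.spec
  have sw : ∀ {a b : Cz z → ℂ} {c : ℂ}, classInner a b = c → classInner b a = conj c := fun {a b c} h => by
    rw [← classInner_comm, h]
  have hpsi : ∀ {g : Cz z → ℂ}, Inv D y g → classInner (psi χ) g = 0 := fun {g} hg => by
    have := psi_inner_zero hy (f := fun _ => (1 : ℂ)) (g := g) (fun _ _ => rfl) hg
    rwa [show psi χ * (fun _ : Cz z => (1 : ℂ)) = psi χ from funext fun c => mul_one _] at this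
  have pp : classInner (psi χ) (psi χ) = 1 := by
    have := psi_inner_psi H.spec.lamsq hy2 i1 i1
    rw [show psi χ * D.one = psi χ from funext fun c => mul_one _,
      show (fun c => (D.lam c : ℂ) * D.one c) = D.lamF from funext fun c => mul_one _, b1, sw b7, map_zero,
      add_zero] at this
    exact this
  have l1 : classInner D.lamF (D.th1 Ω) = 0 := by
    rw [Sys.th1, classInner_sub_right, classInner_sub_right, sw r3, sw b7, b6, map_zero]; ring
  have l1' : classInner D.lamF (D.th1' Ω) = -1 := by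
    rw [Sys.th1', classInner_sub_right, classInner_sub_right, sw r3, b4, sw b9, map_zero]; ring
  have l2 : classInner D.lamF (D.th2 Ω) = 0 := by
    rw [Sys.th2, R_one_false H.spec, classInner_sub_right, classInner_sub_right, sw t3, sw b7, sw b9, map_zero]
    ring
  obtain ⟨-, q1, -, -, q2⟩ := inner_lam_th2 (Ω := Ω) H.spec H.z2 hθ
  have p3 : classInner (psi χ * D.th2 Ω) (psi χ * D.th2 Ω) = 3 := by
    rw [psi_inner_psi H.spec.lamsq hy2 it2 it2, n22]
    show 3 + classInner (fun c => D.lamF c * D.th2 Ω c) (D.th2 Ω) = 3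
    rw [q2, add_zero]
  have pPsi : classInner (psi χ * D.th2 Ω) (psi χ) = -1 := by
    have := psi_inner_psi H.spec.lamsq hy2 it2 i1
    rw [show psi χ * D.one = psi χ from funext fun c => mul_one _, o2] at this
    rw [this]
    show -1 + classInner (fun c => D.lamF c * D.th2 Ω c) D.one = -1
    rw [q1, add_zero]
  refine ⟨?_, ?_, ?_, ?_, ?_, p3, psi_inner_zero hy it2 i1, psi_inner_zero hy it2 it1, psi_inner_zero hy it2 it1',
    psi_inner_zero hy it2 it2, ?_⟩
  · simp only [fun1, classInner_sub_left, classInner_sub_right, pp, hpsi i1, hpsi iL, sw (hpsi i1), sw (hpsi iL),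
      b1, b4, b7, sw b7, map_zero]
    norm_num
  · simp only [fun1, classInner_sub_left, hpsi i1, b1, sw b7, map_zero]; norm_num
  · simp only [fun1, classInner_sub_left, hpsi it1, l1, sw o1, map_neg, map_one]; norm_num
  · simp only [fun1, classInner_sub_left, hpsi it1', l1', sw o1', map_zero]; norm_num
  · simp only [fun1, classInner_sub_left, hpsi it2, l2, sw o2, map_neg, map_one]; norm_num
  · rw [fun1, classInner_sub_left, classInner_sub_left, sw pPsi, sw (psi_inner_zero hy it2 i1),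
      sw (psi_inner_zero hy it2 iL), map_zero]
    norm_num

end CfsgLib.RankTwoModel.L4.SemiChar
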