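import Cfsg.Agent.Lib.CharTheory.Induced
import Cfsg.Agent.Lib.CharTheory.CyclicTI2

/-!
# The induced character of a linear character of a subgroup of index two

`lam` is a character with values `1, -1` and `χ` a linear character of its kernel, inverted outside the kernel;
`psi lam χ` is `χ + χ⁻¹` on the kernel and `0` outside.

Blueprint: `blueprint/RankTwo_L45.md`, D3.
-/

set_option autoImplicit false
set_option linter.unusedSectionVars false
set_option linter.style.haveILetI false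

namespace CfsgLib.RankTwoModel.L4.SemiChar

open Cfsg CfsgLib.CharTheory
open scoped ComplexConjugate

universe u

variable {C : Type u} [Group C] {lam : C →* ℂˣ}

open Classical in
/-- A character of the kernel extended by zero. -/
noncomputable def ev (χ : ↥lam.ker →* ℂˣ) (c : C) : ℂ := if h : c ∈ lam.ker then (χ ⟨c, h⟩ : ℂ) else 0

/-- The induced character. -/
noncomputable def psi (χ : ↥lam.ker →* ℂˣ) (c : C) : ℂ := ev χ c + ev χ⁻¹ c

theorem ev_mem (χ : ↥lam.ker →* ℂˣ) {c : C} (h : c ∈ lam.ker) : ev χ c = (χ ⟨c, h⟩ : ℂ) := dif_pos h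

theorem ev_not_mem (χ : ↥lam.ker →* ℂˣ) {c : C} (h : c ∉ lam.ker) : ev χ c = 0 := dif_neg h

theorem psi_mem (χ : ↥lam.ker →* ℂˣ) {c : C} (h : c ∈ lam.ker) :
    psi χ c = (χ ⟨c, h⟩ : ℂ) + ((χ ⟨c, h⟩)⁻¹ : ℂˣ) := by
  rw [psi, ev_mem χ h, ev_mem χ⁻¹ h, MonoidHom.inv_apply]

theorem psi_not_mem (χ : ↥lam.ker →* ℂˣ) {c : C} (h : c ∉ lam.ker) : psi χ c = 0 := by
  rw [psi, ev_not_mem χ h, ev_not_mem χ⁻¹ h, add_zero]

theorem lam_cases (hsq : ∀ c, lam c * lam c = 1) (c : C) :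
    (c ∈ lam.ker ∧ (lam c : ℂ) = 1) ∨ (c ∉ lam.ker ∧ (lam c : ℂ) = -1) := by
  have h : (lam c : ℂ) * (lam c : ℂ) = 1 := by rw [← Units.val_mul, hsq, Units.val_one]
  rcases mul_self_eq_one_iff.1 h with h | h
  · exact Or.inl ⟨MonoidHom.mem_ker.2 (Units.ext h), h⟩
  · refine Or.inr ⟨fun hc => ?_, h⟩
    rw [MonoidHom.mem_ker.1 hc, Units.val_one] at h
    norm_num at h

/-- `χ` is inverted by the elements outside the kernel. -/
theorem inv_out (hsq : ∀ c, lam c * lam c = 1) {w : C} (hw : (lam w : ℂ) = -1) {χ : ↥lam.ker →* ℂˣ}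
    (hinv : ∀ k k' : ↥lam.ker, w * (k : C) * w⁻¹ = k' → χ k' = (χ k)⁻¹) {x : C} (hx : x ∉ lam.ker)
    {k k' : ↥lam.ker} (h : x * (k : C) * x⁻¹ = k') : χ k' = (χ k)⁻¹ := by
  have hl : x * w⁻¹ ∈ lam.ker := by
    rw [MonoidHom.mem_ker, map_mul, map_inv, mul_inv_eq_one]
    exact Units.ext (by rw [((lam_cases hsq x).resolve_left fun e => hx e.1).2, hw])
  have hkw : w * (k : C) * w⁻¹ ∈ lam.ker := (MonoidHom.normal_ker lam).conj_mem _ k.2 w
  have e1 := hinv k ⟨_, hkw⟩ rfl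
  have e2 : k' = ⟨x * w⁻¹, hl⟩ * ⟨_, hkw⟩ * (⟨x * w⁻¹, hl⟩ : ↥lam.ker)⁻¹ := Subtype.ext (by
    show (k' : C) = x * w⁻¹ * (w * (k : C) * w⁻¹) * (x * w⁻¹)⁻¹
    rw [← h]; group)
  rw [e2, map_mul, map_mul, map_inv, mul_comm, inv_mul_cancel_left, e1]

theorem inv_in {χ : ↥lam.ker →* ℂˣ} {x : C} (hx : x ∈ lam.ker) {k k' : ↥lam.ker}
    (h : x * (k : C) * x⁻¹ = k') : χ k' = χ k := by
  rw [show k' = ⟨x, hx⟩ * k * (⟨x, hx⟩ : ↥lam.ker)⁻¹ from Subtype.ext h.symm, map_mul, map_mul, map_inv, mul_comm,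
    inv_mul_cancel_left]

theorem psi_classFun (hsq : ∀ c, lam c * lam c = 1) {w : C} (hw : (lam w : ℂ) = -1) {χ : ↥lam.ker →* ℂˣ}
    (hinv : ∀ k k' : ↥lam.ker, w * (k : C) * w⁻¹ = k' → χ k' = (χ k)⁻¹) : IsClassFunction C (psi χ) := by
  intro g x
  by_cases hg : g ∈ lam.ker
  · have hg' : x * g * x⁻¹ ∈ lam.ker := (MonoidHom.normal_ker lam).conj_mem _ hg x
    rw [psi_mem χ hg, psi_mem χ hg']
    by_cases hx : x ∈ lam.ker
    · rw [inv_in (χ := χ) hx (k := ⟨g, hg⟩) (k' := ⟨_, hg'⟩) rfl]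
    · rw [inv_out hsq hw hinv hx (k := ⟨g, hg⟩) (k' := ⟨_, hg'⟩) rfl, inv_inv, add_comm]
  · rw [psi_not_mem χ hg, psi_not_mem]
    intro h
    exact hg (by simpa [mul_assoc] using (MonoidHom.normal_ker lam).conj_mem _ h x⁻¹)

variable [Fintype C]

theorem conj_psi (χ : ↥lam.ker →* ℂˣ) (c : C) : conj (psi χ c) = psi χ c := by
  by_cases h : c ∈ lam.ker
  · rw [psi_mem χ h, map_add, conj_hom_apply, ← map_inv χ, conj_hom_apply, inv_inv, add_comm]
  · rw [psi_not_mem χ h, map_zero]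

/-- The square. -/
theorem psi_sq (hsq : ∀ c, lam c * lam c = 1) (χ : ↥lam.ker →* ℂˣ) (c : C) :
    psi χ c * psi χ c = 1 + (lam c : ℂ) + psi (χ * χ) c := by
  rcases lam_cases hsq c with ⟨h, e⟩ | ⟨h, e⟩
  · rw [psi_mem χ h, psi_mem (χ * χ) h, e, MonoidHom.mul_apply, mul_inv, Units.val_mul, Units.val_mul]
    have h1 : (χ ⟨c, h⟩ : ℂ) * ((χ ⟨c, h⟩)⁻¹ : ℂˣ) = 1 := by rw [← Units.val_mul, mul_inv_cancel, Units.val_one]
    linear_combination (2 : ℂ) * h1
  · rw [psi_not_mem χ h, psi_not_mem _ h, e]; ring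

/-- The translation argument: sums against functions invariant under an element with non-trivial value vanish. -/
theorem sum_ev_zero {χ : ↥lam.ker →* ℂˣ} {y : ↥lam.ker} (hy : χ y ≠ 1) {f : C → ℂ}
    (hf : ∀ c ∈ lam.ker, f (c * y) = f c) : ∑ c : C, ev χ c * f c = 0 := by
  have key : ∀ c : C, ev χ (c * y) * f (c * y) = (χ y : ℂ) * (ev χ c * f c) := by
    intro c
    by_cases h : c ∈ lam.ker
    · rw [ev_mem χ h, ev_mem χ (mul_mem h y.2), hf c h,
        show (⟨c * y, mul_mem h y.2⟩ : ↥lam.ker) = ⟨c, h⟩ * y from rfl, map_mul, Units.val_mul]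
      ring
    · rw [ev_not_mem χ h, ev_not_mem χ fun h' => h ((mul_mem_cancel_right y.2).1 h'), zero_mul, zero_mul, mul_zero]
  have e : ∑ c : C, ev χ c * f c = (χ y : ℂ) * ∑ c : C, ev χ c * f c := by
    rw [Finset.mul_sum]
    exact (Fintype.sum_equiv (Equiv.mulRight (y : C)) _ _ fun c => rfl).symm.trans (Finset.sum_congr rfl fun c _ => key c)
  by_contra hne
  exact hy (Units.ext (mul_right_cancel₀ hne ((one_mul _).trans e)).symm)

theorem sum_psi_zero {χ : ↥lam.ker →* ℂˣ} {y : ↥lam.ker} (hy : χ y ≠ 1) {f : C → ℂ}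
    (hf : ∀ c ∈ lam.ker, f (c * y) = f c) : ∑ c : C, psi χ c * f c = 0 := by
  simp only [psi, add_mul, Finset.sum_add_distrib]
  rw [sum_ev_zero hy hf, sum_ev_zero (χ := χ⁻¹) (by simpa using hy) hf, add_zero]

theorem psi_inner_zero {χ : ↥lam.ker →* ℂˣ} {y : ↥lam.ker} (hy : χ y ≠ 1) {f g : C → ℂ}
    (hf : ∀ c ∈ lam.ker, f (c * y) = f c) (hg : ∀ c ∈ lam.ker, g (c * y) = g c) :
    classInner (psi χ * f) g = 0 := by
  simp only [classInner, Pi.mul_apply, mul_assoc]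
  rw [sum_psi_zero hy (f := fun c => f c * conj (g c)) fun c hc => by simp only [hf c hc, hg c hc], mul_zero]

/-- Products of two multiples of the induced character. -/
theorem psi_inner_psi (hsq : ∀ c, lam c * lam c = 1) {χ : ↥lam.ker →* ℂˣ} {y : ↥lam.ker} (hy : (χ * χ) y ≠ 1)
    {f g : C → ℂ} (hf : ∀ c ∈ lam.ker, f (c * y) = f c) (hg : ∀ c ∈ lam.ker, g (c * y) = g c) :
    classInner (psi χ * f) (psi χ * g) = classInner f g + classInner (fun c => (lam c : ℂ) * f c) g := by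
  have e : ∀ c, psi χ c * f c * conj (psi χ c * g c) =
      f c * conj (g c) + (lam c : ℂ) * f c * conj (g c) + psi (χ * χ) c * (f c * conj (g c)) := fun c => by
    rw [map_mul, conj_psi]
    linear_combination (f c * conj (g c)) * psi_sq hsq χ c
  simp only [classInner, Pi.mul_apply, e, Finset.sum_add_distrib]
  rw [sum_psi_zero hy (f := fun c => f c * conj (g c)) fun c hc => by simp only [hf c hc, hg c hc], add_zero, mul_add]

theorem psi_gen (hsq : ∀ c, lam c * lam c = 1) {w : C} (hw : (lam w : ℂ) = -1) {χ : ↥lam.ker →* ℂˣ}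
    (hinv : ∀ k k' : ↥lam.ker, w * (k : C) * w⁻¹ = k' → χ k' = (χ k)⁻¹) : IsGeneralizedCharacter C (psi χ) := by
  classical
  letI := Fintype.ofFinite ↥lam.ker
  have hsum : ∑ c : C, (lam c : ℂ) = 0 := by
    have e : ∑ c : C, (lam c : ℂ) = (lam w : ℂ) * ∑ c : C, (lam c : ℂ) := by
      rw [Finset.mul_sum]
      exact (Fintype.sum_equiv (Equiv.mulLeft w) _ _ fun c => rfl).symm.trans
        (Finset.sum_congr rfl fun c _ => by rw [Equiv.coe_mulLeft, map_mul, Units.val_mul])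
    rw [hw] at e
    linear_combination (1 / 2 : ℂ) * e
  have hcard : (Nat.card ↥lam.ker : ℂ) * 2 = (Nat.card C : ℂ) := by
    have h1 : ∑ c : C, (1 + (lam c : ℂ)) = (Nat.card C : ℂ) := by
      rw [Finset.sum_add_distrib, hsum, add_zero, Finset.sum_const, nsmul_one, Finset.card_univ,
        Nat.card_eq_fintype_card]
    have h2 : ∑ c : C, (1 + (lam c : ℂ)) = ∑ c : C, if c ∈ lam.ker then (2 : ℂ) else 0 :=
      Finset.sum_congr rfl fun c _ => by
        rcases lam_cases hsq c with ⟨h, e⟩ | ⟨h, e⟩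
        · rw [if_pos h, e]; norm_num
        · rw [if_neg h, e]; norm_num
    rw [← h1, h2, ← Finset.sum_filter, Finset.sum_const, nsmul_eq_mul, ← Fintype.card_subtype,
      ← Nat.card_eq_fintype_card]
  have hind : indFun lam.ker (fun k : ↥lam.ker => (χ k : ℂ)) = psi χ := by
    funext c
    by_cases hc : c ∈ lam.ker
    · rw [show indFun lam.ker (fun k : ↥lam.ker => (χ k : ℂ)) c =
          indFun lam.ker (fun k : ↥lam.ker => (χ k : ℂ)) ((⟨c, hc⟩ : ↥lam.ker) : C) from rfl,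
        indFun_normal_apply]
      have e : ∀ x : C, (χ ⟨x * c * x⁻¹, (MonoidHom.normal_ker lam).conj_mem c hc x⟩ : ℂ) =
          (1 + (lam x : ℂ)) / 2 * (χ ⟨c, hc⟩ : ℂ) + (1 - (lam x : ℂ)) / 2 * ((χ ⟨c, hc⟩)⁻¹ : ℂˣ) := by
        intro x
        rcases lam_cases hsq x with ⟨h, e⟩ | ⟨h, e⟩
        · rw [inv_in (χ := χ) h (k := ⟨c, hc⟩) (k' := ⟨_, (MonoidHom.normal_ker lam).conj_mem c hc x⟩) rfl, e]; ring
        · rw [inv_out hsq hw hinv h (k := ⟨c, hc⟩) (k' := ⟨_, (MonoidHom.normal_ker lam).conj_mem c hc x⟩) rfl, e]; ring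
      rw [Finset.sum_congr rfl fun x _ => e x, psi_mem χ hc, Finset.sum_add_distrib, ← Finset.sum_mul,
        ← Finset.sum_mul, ← Finset.sum_div, ← Finset.sum_div, Finset.sum_add_distrib, Finset.sum_sub_distrib, hsum,
        Finset.sum_const, nsmul_one, Finset.card_univ, ← Nat.card_eq_fintype_card, add_zero, sub_zero, ← hcard]
      have hK : (Nat.card ↥lam.ker : ℂ) ≠ 0 := Nat.cast_ne_zero.2 Nat.card_pos.ne'
      field_simp
    · rw [indFun_normal_apply_not_mem lam.ker _ hc, psi_not_mem χ hc]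
  rw [← hind]
  exact isGenChar_indFun _ (isGenChar_of_char (isCharacter_of_irr (isIrrCharacter_linear χ)))

end CfsgLib.RankTwoModel.L4.SemiChar
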