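import Cfsg.Agent.Lib.RankTwoModel.L4.SemiChar.Psi
import Cfsg.Agent.Lib.RankTwoModel.L4.SemiLocal

/-!
# The setting of the semidihedral character computation

`χ` is a character of `r`-power order of the kernel of `lam`, inverted by `w`, non-trivial on a central element of
`O`, and the `r`-elements on which it is non-trivial have their centralisers in `C`.

Blueprint: `blueprint/RankTwo_L45.md`, D3.
-/

set_option autoImplicit false
set_option linter.unusedSectionVars false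
set_option linter.style.haveILetI false

namespace CfsgLib.RankTwoModel.L4.SemiChar

open Cfsg CfsgLib.CharTheory CfsgLib.BrauerOrder CfsgLib.Blocks CfsgLib.Blocks.AbelianFree
open scoped ComplexConjugate

universe u v

variable {G : Type u} [Group G] [Fintype G] {z : G}

/-- The hypotheses on the character. -/
structure Hyps (D : Sys G z) (Ω : Type v) [MulAction (Cz z) Ω] [Fintype (Cz z)] (r : ℕ)
    (χ : ↥D.lam.ker →* ℂˣ) : Prop where
  spec : D.Spec Ω
  z2 : Nat.card D.core.Z = 2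
  rp : r.Prime
  r2 : r ≠ 2
  pow : ∀ k, ∃ n : ℕ, χ k ^ r ^ n = 1
  inv : ∀ k k' : ↥D.lam.ker, D.w * (k : Cz z) * D.w⁻¹ = k' → χ k' = (χ k)⁻¹
  y0 : ∃ y : ↥D.lam.ker, χ y ≠ 1 ∧ (y : Cz z) ∈ D.core.O ∧
    ∀ k ∈ D.lam.ker, (y : Cz z) * k = k * (y : Cz z)
  safe : ∀ a : ↥D.lam.ker, χ a ≠ 1 → (∃ n : ℕ, orderOf a = r ^ n) →
    Subgroup.centralizer ({((a : Cz z) : G)} : Set G) ≤ Subgroup.centralizer ({z} : Set G)

variable [Fintype (Cz z)] {Ω : Type v} [MulAction (Cz z) Ω] {D : Sys G z} {r : ℕ} {χ : ↥D.lam.ker →* ℂˣ}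
  (H : Hyps D Ω r χ)
include H

theorem lam_w : (D.lam D.w : ℂ) = -1 := by
  obtain ⟨t, ht, e⟩ := H.spec.lamU
  have hm : ((-1 : ℂˣ) : ℂ) = -1 := by simp
  rcases H.spec.invU t ht (sq_one_of_card H.spec H.z2.le ⟨t, ht⟩) with rfl | rfl | rfl | rfl
  · rw [map_one] at e
    exact absurd (congrArg Units.val e) (by norm_num)
  · rw [H.spec.lamz] at e
    exact absurd (congrArg Units.val e) (by norm_num)
  · rw [e, hm]
  · rw [map_mul, H.spec.lamz, one_mul] at e
    rw [e, hm]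

theorem zc_ker : D.zc ∈ D.lam.ker := MonoidHom.mem_ker.2 H.spec.lamz

/-- The only involution of the kernel. -/
theorem invol_ker {p : Cz z} (hp : orderOf p = 2) (hk : p ∈ D.lam.ker) : p = D.zc := by
  rcases invol_cases H.spec hp with h | h
  · exact h
  · obtain ⟨x, hx⟩ := isConj_iff.1 h
    exfalso
    have h1 : D.lam p = D.lam D.w := by rw [← hx, lam_conj H.spec]
    have h2 := lam_w H
    rw [← h1, MonoidHom.mem_ker.1 hk, Units.val_one] at h2
    norm_num at h2

/-- Elements of order prime to `r` have trivial value. -/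
theorem chi_regular {a : ↥D.lam.ker} (ha : ¬ r ∣ orderOf a) : χ a = 1 := by
  obtain ⟨n, hn⟩ := H.pow a
  rw [← pow_one (χ a), ← ((H.rp.coprime_iff_not_dvd.2 ha).symm.pow_right n).gcd_eq_one]
  exact pow_gcd_eq_one.mpr ⟨by rw [← map_pow, pow_orderOf_eq_one, map_one], hn⟩

theorem chi_odd_order {a : ↥D.lam.ker} (ha : χ a * χ a = 1) : χ a = 1 := by
  obtain ⟨n, hn⟩ := H.pow a
  rw [← pow_one (χ a), ← ((Nat.coprime_primes Nat.prime_two H.rp).2 (Ne.symm H.r2)).pow_right n |>.gcd_eq_one]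
  exact pow_gcd_eq_one.mpr ⟨by rw [pow_two, ha], hn⟩

theorem chi_conj {x : Cz z} (hx : x ∉ D.lam.ker) {k k' : ↥D.lam.ker} (h : x * (k : Cz z) * x⁻¹ = k') :
    χ k' = (χ k)⁻¹ := inv_out H.spec.lamsq (lam_w H) H.inv hx h

/-- The involution is the only conjugate of itself centralising an element with non-trivial value. -/
theorem unique_conj {c : ↥D.lam.ker} (hc : χ c ≠ 1) {a : G} (ha : IsConj z a)
    (hcomm : a * ((c : Cz z) : G) = ((c : Cz z) : G) * a) : a = z := by
  haveI : Fact r.Prime := ⟨H.rp⟩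
  obtain ⟨k, m, hm, hnm⟩ := Nat.exists_eq_pow_mul_and_not_dvd (orderOf_pos c).ne' r H.rp.ne_one
  have hcm : χ (c ^ m) ≠ 1 := fun e => hc (by
    obtain ⟨n, hn⟩ := H.pow c
    rw [← pow_one (χ c), ← ((H.rp.coprime_iff_not_dvd.2 hm).symm.pow_right n).gcd_eq_one]
    exact pow_gcd_eq_one.mpr ⟨by rw [← map_pow, e], hn⟩)
  have hco : ∃ n, orderOf (c ^ m) = r ^ n := by
    have hdvd : orderOf (c ^ m) ∣ r ^ k := orderOf_dvd_of_pow_eq_one (by
      rw [← pow_mul, mul_comm, ← hnm, pow_orderOf_eq_one])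
    obtain ⟨n, -, hn⟩ := (Nat.dvd_prime_pow H.rp).1 hdvd
    exact ⟨n, hn⟩
  set b := c ^ m
  have hcb : a * ((b : Cz z) : G) = ((b : Cz z) : G) * a := by
    rw [show ((b : Cz z) : G) = ((c : Cz z) : G) ^ m by simp [b]]
    exact (show Commute a ((c : Cz z) : G) from hcomm).pow_right m
  set p : Cz z := ⟨a, H.safe b hcm hco (Subgroup.mem_centralizer_singleton_iff.2 hcb)⟩
  have hp : orderOf p = 2 := by
    obtain ⟨x, hx⟩ := isConj_iff.1 ha
    rw [← Subgroup.orderOf_coe]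
    show orderOf a = 2
    rw [← hx, conj_orderOf, H.spec.zord]
  have hpc : p * (b : Cz z) = (b : Cz z) * p := Subtype.ext hcb
  have hpk : p ∈ D.lam.ker := by
    by_contra hpk
    have e := chi_conj H hpk (k := b) (k' := b) (by rw [hpc, mul_inv_cancel_right])
    exact hcm (chi_odd_order H (by nth_rewrite 1 [e]; rw [inv_mul_cancel]))
  have := congrArg Subtype.val (invol_ker H hp hpk)
  rwa [H.spec.zcv] at this

omit H in
/-- `θ_l - 1 - lam`. -/
noncomputable def fun1 (D : Sys G z) (χ : ↥D.lam.ker →* ℂˣ) : Cz z → ℂ := psi χ - D.one - D.lamF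

theorem fun1_eq_zero {c : Cz z} (h : ∀ hc : c ∈ D.lam.ker, χ ⟨c, hc⟩ = 1) : fun1 D χ c = 0 := by
  show psi χ c - 1 - (D.lam c : ℂ) = 0
  rcases lam_cases H.spec.lamsq c with ⟨hc, e⟩ | ⟨hc, e⟩
  · rw [psi_mem χ hc, h hc, inv_one, Units.val_one, e]; ring
  · rw [psi_not_mem χ hc, e]; ring

theorem fun1_safe : Safe z (fun1 D χ) := by
  intro c hc a ha hcomm
  by_contra hne
  refine hc (fun1_eq_zero H fun hk => ?_)
  by_contra h
  exact hne (unique_conj H (c := ⟨c, hk⟩) h ha hcomm)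

theorem fun1_classFun : IsClassFunction (Cz z) (fun1 D χ) := by
  obtain ⟨a, b, -⟩ := classFun_six H.spec
  exact isClassFunction_sub (isClassFunction_sub (psi_classFun H.spec.lamsq (lam_w H) H.inv) a) b

theorem fun1_gen : IsGeneralizedCharacter (Cz z) (fun1 D χ) :=
  isGenChar_sub (isGenChar_sub (psi_gen H.spec.lamsq (lam_w H) H.inv)
    (isGenChar_of_char (isCharacter_of_irr isIrrCharacter_one)))
    (isGenChar_of_char (isCharacter_of_irr (isIrrCharacter_linear D.lam)))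

/-- At `r`-regular elements the induced character is `1 + lam`. -/
theorem psi_regular {c : Cz z} (hc : ¬ r ∣ orderOf c) : psi χ c = 1 + (D.lam c : ℂ) := by
  rcases lam_cases H.spec.lamsq c with ⟨hk, e⟩ | ⟨hk, e⟩
  · rw [psi_mem χ hk, chi_regular H (a := ⟨c, hk⟩) (by rwa [← Subgroup.orderOf_coe]), inv_one, Units.val_one, e]
  · rw [psi_not_mem χ hk, e]; ring

theorem fun1_regular {c : Cz z} (hc : ¬ r ∣ orderOf c) : fun1 D χ c = 0 := by
  show psi χ c - 1 - (D.lam c : ℂ) = 0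
  rw [psi_regular H hc]; ring

end CfsgLib.RankTwoModel.L4.SemiChar
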